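import Groth.Agent.AVTorsLib.Relative
import Groth.Agent.AlgStLib.LocEss
import Groth.Agent.AlgSpPts.Sep
import Groth.Agent.H23.GeomConn
import Groth.Agent.GrpSchLib.IsogenyFibre
import Groth.Prelude.Def_CGrpSh

/-!
# Abelian schemes are divisible as fppf sheaves
-/

noncomputable section

set_option autoImplicit false
set_option linter.style.haveILetI false
set_option linter.unusedSectionVars false
set_option backward.isDefEq.respectTransparency false
set_option backward.isDefEq.respectTransparency.types false

universe u

set_option synthInstance.maxHeartbeats 400000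

open CategoryTheory CategoryTheory.Limits MonoidalCategory CartesianMonoidalCategory MonObj GrpObj AlgebraicGeometry Opposite

attribute [local instance] CategoryTheory.Hom.monoid CategoryTheory.Hom.group

namespace Groth.Agent.BiextDiv

variable {S : Scheme.{u}}

/-- Multiplication by a non-zero integer is an epimorphism of the sheaf of points of an abelian scheme. -/
theorem epi_zsmul_pts (A : Over S) [GrpObj A] [IsCommMonObj A] [Smooth A.hom] [IsProper A.hom]
    (hA : ∀ s : S, ConnectedSpace ↥(A.hom.fiber s)) (n : ℤ) (hn : n ≠ 0) :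
    Epi (n • 𝟙 (CGrpSh.pts Scheme.fppfPrecoverage A)) := by
  haveI := H23.GeomConn.of_grp A hA
  haveI := GrpSchLib.IsogenyFibre.geometricallyReduced_of_smooth' A.hom
  let ν : A ⟶ A := 𝟙 A ^ n
  haveI hfl : Flat ν.left := AVTorsLib.flat_zpow n hn
  haveI hsu : Surjective ν.left := AVTorsLib.surjective_zpow n hn
  haveI : LocallyOfFinitePresentation (ν.left ≫ A.hom) := by rw [Over.w ν]; infer_instance
  haveI hfp : LocallyOfFinitePresentation ν.left := AlgSpPts.locallyOfFinitePresentation_of_comp ν.left A.hom
  haveI : Sheaf.IsLocallySurjective (n • 𝟙 (CGrpSh.pts Scheme.fppfPrecoverage A)) := by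
    refine ⟨fun {T} x => ?_⟩
    let y : T ⟶ A := x.down.toMul
    let W : Over S := Over.mk (pullback.fst y.left ν.left ≫ T.hom)
    let p : W ⟶ T := Over.homMk (pullback.fst y.left ν.left) rfl
    let z : W ⟶ A := Over.homMk (pullback.snd y.left ν.left) (by
      show pullback.snd y.left ν.left ≫ A.hom = pullback.fst y.left ν.left ≫ T.hom
      rw [← Over.w ν, ← Category.assoc, ← pullback.condition, Category.assoc, Over.w y])
    haveI : Flat p.left := MorphismProperty.pullback_fst (P := @Flat) _ _ hfl
    haveI : Surjective p.left := MorphismProperty.pullback_fst (P := @Surjective) _ _ hsu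
    haveI : LocallyOfFinitePresentation p.left :=
      MorphismProperty.pullback_fst (P := @LocallyOfFinitePresentation) _ _ hfp
    refine GrothendieckTopology.superset_covering _ ?_
      (AlgStLib.mem_J_of_fppf p ‹_› ‹_› p.left.surjective)
    rw [Sieve.generate_le_iff]
    rintro V _ ⟨⟩
    refine ⟨(ULift.up (Additive.ofMul z) : ToType ((CGrpSh.pts Scheme.fppfPrecoverage A).obj.obj (op W))), ?_⟩
    refine ULift.ext _ _ (congrArg Additive.ofMul ?_)
    show z ^ n = p ≫ y
    have h1 : z ≫ ν = p ≫ y := Over.OverMorphism.ext pullback.condition.symm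
    rw [← h1, GrpObj.comp_zpow, Category.comp_id]
  exact (Sheaf.isLocallySurjective_iff_epi' (A := AddCommGrpCat.{u + 1})
    (n • 𝟙 (CGrpSh.pts Scheme.fppfPrecoverage A))).1 inferInstance

end Groth.Agent.BiextDiv
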