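import Groth.Agent.BiextDiv.TorusAb
import Groth.Agent.OneMotLib.Seq

/-!
# The sheaves of homomorphisms of an extension
-/

noncomputable section

set_option autoImplicit false
set_option linter.style.haveILetI false
set_option linter.unusedSectionVars false
set_option backward.isDefEq.respectTransparency false
set_option backward.isDefEq.respectTransparency.types false
set_option synthInstance.maxHeartbeats 400000

universe u

open CategoryTheory CategoryTheory.Limits MonoidalCategory CartesianMonoidalCategory MonObj GrpObj AlgebraicGeometry Opposite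

attribute [local instance] CategoryTheory.Hom.monoid CategoryTheory.Hom.group

namespace Groth.Agent.BiextDiv

open Groth.Agent.MultSchFac

local notation "𝔖" => CGrpSh.pts Scheme.fppfPrecoverage

local notation "J₀" => QuotSh.J Scheme.fppfPrecoverage

variable {S : Scheme.{u}} {B C D : Over S} [GrpObj B] [IsCommMonObj B] [GrpObj C] [IsCommMonObj C] [GrpObj D]
  [IsCommMonObj D] {W : Over S}

/-- A section of the sheaf of homomorphisms given on points. -/
def ofVal (F : ∀ V : Over W, (V.left ⟶ B) → (V.left ⟶ C))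
    (hmul : ∀ V b b', F V (b * b') = F V b * F V b')
    (hnat : ∀ {V V' : Over W} (g : V' ⟶ V) (b : V.left ⟶ B), F V' (g.left ≫ b) = g.left ≫ F V b) :
    (𝔖 B).over W ⟶ (𝔖 C).over W :=
  ⟨{ app := fun V => AddCommGrpCat.ofHom
      (AddMonoidHom.mk'
        (fun x : ULift.{u + 1} (Additive (V.unop.left ⟶ B)) =>
          (ULift.up (Additive.ofMul (F V.unop x.down.toMul)) : ULift.{u + 1} (Additive (V.unop.left ⟶ C))))
        fun x y => ULift.ext _ _ (congrArg Additive.ofMul (hmul V.unop x.down.toMul y.down.toMul)))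
     naturality := fun V V' g => by
      ext x
      exact ULift.ext _ _ (congrArg Additive.ofMul (hnat g.unop x.down.toMul)) }⟩

theorem val_ofVal (F : ∀ V : Over W, (V.left ⟶ B) → (V.left ⟶ C))
    (hmul : ∀ V b b', F V (b * b') = F V b * F V b')
    (hnat : ∀ {V V' : Over W} (g : V' ⟶ V) (b : V.left ⟶ B), F V' (g.left ≫ b) = g.left ≫ F V b) (V : Over W)
    (b : V.left ⟶ B) : val (ofVal F hmul hnat) V b = F V b := rfl

theorem sec_ext {φ φ' : (𝔖 B).over W ⟶ (𝔖 C).over W} (h : ∀ V b, val φ V b = val φ' V b) : φ = φ' := by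
  refine Sheaf.hom_ext ?_
  ext V x
  exact ULift.ext _ _ (congrArg Additive.ofMul (h V.unop x.down.toMul))

theorem val_zero (V : Over W) (b : V.left ⟶ B) : val (0 : (𝔖 B).over W ⟶ (𝔖 C).over W) V b = 1 := rfl

theorem val_pre (π : D ⟶ B) [IsMonHom π] (φ : (𝔖 B).over W ⟶ (𝔖 C).over W) (V : Over W) (d : V.left ⟶ D) :
    val (((J₀ S).overPullback AddCommGrpCat.{u + 1} W).map (CGrpSh.ptsMap Scheme.fppfPrecoverage π) ≫ φ) V d =
      val φ V (d ≫ π) := rfl

theorem val_post (π : C ⟶ D) [IsMonHom π] (φ : (𝔖 B).over W ⟶ (𝔖 C).over W) (V : Over W) (b : V.left ⟶ B) :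
    val (φ ≫ ((J₀ S).overPullback AddCommGrpCat.{u + 1} W).map (CGrpSh.ptsMap Scheme.fppfPrecoverage π)) V b =
      val φ V b ≫ π := rfl

theorem eq_zero_of_isZero (h : IsZero (HomSh.homSh (J₀ S) (𝔖 B) (𝔖 C))) (φ : (𝔖 B).over W ⟶ (𝔖 C).over W) :
    φ = 0 := by
  let x : (HomSh.homSh (J₀ S) (𝔖 B) (𝔖 C)).obj.obj (op W) := φ
  have h1 := congrArg (fun t : HomSh.homSh (J₀ S) (𝔖 B) (𝔖 C) ⟶ HomSh.homSh (J₀ S) (𝔖 B) (𝔖 C) => t.hom.app (op W) x)
    ((IsZero.iff_id_eq_zero _).1 h)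
  exact h1

section Ext

variable {F G H : Over S} [GrpObj F] [IsCommMonObj F] [GrpObj G] [IsCommMonObj G] [GrpObj H] [IsCommMonObj H]
  {u : F ⟶ G} {v : G ⟶ H} [IsMonHom u] [IsMonHom v] {w : u ≫ v = 1}
  (hex : (CGrpSh.seq Scheme.fppfPrecoverage u v w).ShortExact)

include hex

/-- Two sections agreeing on the covering group agree. -/
theorem sec_ext_of_epi {φ φ' : (𝔖 H).over W ⟶ (𝔖 C).over W}
    (h : ∀ (V : Over W) (g : V.left ⟶ G), val φ V (g ≫ v) = val φ' V (g ≫ v)) : φ = φ' := by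
  refine sec_ext fun V b => ?_
  obtain ⟨R, hR, hlift⟩ := OneMotLib.locSurj_of_shortExact u v w hex V.left b
  refine hom_ext_cover _ hR fun W' f hf => ?_
  obtain ⟨g, hg⟩ := hlift f hf
  let V' : Over W := Over.mk (f ≫ V.hom)
  let p : V' ⟶ V := Over.homMk f rfl
  have h1 := h V' g
  rw [hg] at h1
  exact (val_res φ p b).symm.trans (h1.trans (val_res φ' p b))

/-- A section killing the subgroup descends to the quotient. -/
theorem exists_descSec (ψ : (𝔖 G).over W ⟶ (𝔖 C).over W)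
    (h : ∀ (V : Over W) (a : V.left ⟶ F), val ψ V (a ≫ u) = 1) :
    ∃ φ : (𝔖 H).over W ⟶ (𝔖 C).over W, ∀ (V : Over W) (g : V.left ⟶ G), val φ V (g ≫ v) = val ψ V g := by
  have hwd : ∀ (V : Over W) (g g' : V.left ⟶ G), g ≫ v = g' ≫ v → val ψ V g = val ψ V g' := by
    intro V g g' e
    obtain ⟨a, ha⟩ := OneMotLib.exists_lift_of_shortExact u v w hex (g * g'⁻¹)
      (by rw [MonObj.mul_comp, GrpObj.inv_comp, e, mul_inv_cancel])
    have h1 := h V a
    rw [ha] at h1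
    calc val ψ V g = val ψ V (g * g'⁻¹ * g') := by rw [inv_mul_cancel_right]
      _ = val ψ V g' := by rw [val_mul, h1, _root_.one_mul]
  have hex' : ∀ (V : Over W) (b : V.left ⟶ H), ∃ c : V.left ⟶ C,
      ∀ (V' : Over W) (p : V' ⟶ V) (g : V'.left ⟶ G), g ≫ v = p.left ≫ b → p.left ≫ c = val ψ V' g := by
    intro V b
    obtain ⟨R, hR, hlift⟩ := OneMotLib.locSurj_of_shortExact u v w hex V.left b
    choose g hg using hlift
    let mkV : ∀ {W' : Over S} (f : W' ⟶ V.left), Over W := fun f => Over.mk (f ≫ V.hom)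
    let fam : Presieve.FamilyOfElements (yoneda.obj C) R.arrows := fun W' f hf => val ψ (mkV f) (g f hf)
    have hfam : fam.Compatible := by
      intro W₁ W₂ Z g₁ g₂ f₁ f₂ h₁ h₂ e
      show g₁ ≫ val ψ (mkV f₁) (g f₁ h₁) = g₂ ≫ val ψ (mkV f₂) (g f₂ h₂)
      let Z₁ : Over W := Over.mk (g₁ ≫ f₁ ≫ V.hom)
      let q₁ : Z₁ ⟶ mkV f₁ := Over.homMk g₁ rfl
      let q₂ : Z₁ ⟶ mkV f₂ := Over.homMk g₂ (by
        show g₂ ≫ f₂ ≫ V.hom = g₁ ≫ f₁ ≫ V.hom
        rw [reassoc_of% e])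
      refine (val_res ψ q₁ _).symm.trans ((hwd Z₁ _ _ ?_).trans (val_res ψ q₂ _))
      show (g₁ ≫ g f₁ h₁) ≫ v = (g₂ ≫ g f₂ h₂) ≫ v
      rw [Category.assoc, Category.assoc, hg, hg, reassoc_of% e]
    obtain ⟨c, hc, -⟩ :=
      (GrothendieckTopology.Subcanonical.isSheaf_of_isRepresentable (J := QuotSh.J Scheme.fppfPrecoverage S) (yoneda.obj C))
        R hR fam hfam
    refine ⟨c, fun V' p g' hg' => hom_ext_cover _ ((J₀ S).pullback_stable p.left hR) fun Z f hf => ?_⟩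
    let Z₁ : Over W := Over.mk ((f ≫ p.left) ≫ V.hom)
    let q : Z₁ ⟶ V' := Over.homMk f (by
      show f ≫ V'.hom = (f ≫ p.left) ≫ V.hom
      rw [Category.assoc, Over.w p])
    have h2 : (f ≫ p.left) ≫ c = val ψ (mkV (f ≫ p.left)) (g (f ≫ p.left) hf) := hc _ hf
    rw [← Category.assoc, h2]
    refine (hwd Z₁ _ (q.left ≫ g') ?_).trans (val_res ψ q g')
    show _ = (f ≫ g') ≫ v
    rw [Category.assoc, hg', hg]
    exact Category.assoc _ _ _
  choose c hc using hex'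
  have hcc : ∀ (V : Over W) (g : V.left ⟶ G), c V (g ≫ v) = val ψ V g := fun V g => by
    have h1 := hc V (g ≫ v) V (𝟙 V) g (by rw [Over.id_left, Category.id_comp])
    rwa [Over.id_left, Category.id_comp] at h1
  refine ⟨ofVal c (fun V b b' => ?_) (fun {V V'} p b => ?_), hcc⟩
  · obtain ⟨R, hR, hlift⟩ := OneMotLib.locSurj_of_shortExact u v w hex V.left b
    obtain ⟨R', hR', hlift'⟩ := OneMotLib.locSurj_of_shortExact u v w hex V.left b'
    refine hom_ext_cover _ ((J₀ S).intersection_covering hR hR') fun Z f hf => ?_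
    obtain ⟨g, hg⟩ := hlift f hf.1
    obtain ⟨g', hg'⟩ := hlift' f hf.2
    let Z₁ : Over W := Over.mk (f ≫ V.hom)
    let q : Z₁ ⟶ V := Over.homMk f rfl
    have e : (g * g') ≫ v = f ≫ (b * b') := by rw [MonObj.mul_comp, hg, hg', MonObj.comp_mul]
    have h1 := hc V (b * b') Z₁ q (g * g') e
    have h2 := hc V b Z₁ q g hg
    have h3 := hc V b' Z₁ q g' hg'
    rw [MonObj.comp_mul]
    refine h1.trans ?_
    rw [val_mul, ← h2, ← h3]
    rfl
  · obtain ⟨R, hR, hlift⟩ := OneMotLib.locSurj_of_shortExact u v w hex V'.left (p.left ≫ b)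
    refine hom_ext_cover _ hR fun Z f hf => ?_
    obtain ⟨g, hg⟩ := hlift f hf
    let Z₁ : Over W := Over.mk (f ≫ V'.hom)
    let q : Z₁ ⟶ V' := Over.homMk f rfl
    have h1 := hc V' (p.left ≫ b) Z₁ q g hg
    have h2 := hc V b Z₁ (q ≫ p) g (by rw [Over.comp_left, Category.assoc]; exact hg)
    rw [Over.comp_left, Category.assoc] at h2
    exact h1.trans h2.symm

/-- A section killed by the projection factors through the subgroup. -/
theorem exists_liftSec (ψ : (𝔖 B).over W ⟶ (𝔖 G).over W)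
    (h : ∀ (V : Over W) (b : V.left ⟶ B), val ψ V b ≫ v = 1) :
    ∃ φ : (𝔖 B).over W ⟶ (𝔖 F).over W, ∀ (V : Over W) (b : V.left ⟶ B), val φ V b ≫ u = val ψ V b := by
  haveI := OneMotLib.mono_of_shortExact u v w hex
  choose c hc using fun (V : Over W) (b : V.left ⟶ B) =>
    OneMotLib.exists_lift_of_shortExact u v w hex (val ψ V b) (h V b)
  refine ⟨ofVal c (fun V b b' => ?_) (fun {V V'} p b => ?_), hc⟩
  · rw [← cancel_mono u, MonObj.mul_comp, hc, hc, hc, val_mul]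
  · rw [← cancel_mono u, Category.assoc, hc, hc, val_res]

theorem mono_homShMap_pre (X : Over S) [GrpObj X] [IsCommMonObj X]
    (h : IsZero (HomSh.homSh (J₀ S) (𝔖 H) (𝔖 X))) :
    Mono (HomSh.homShMap (J₀ S) (CGrpSh.ptsMap Scheme.fppfPrecoverage u) (𝟙 (𝔖 X)) :
      HomSh.homSh (J₀ S) (𝔖 G) (𝔖 X) ⟶ HomSh.homSh (J₀ S) (𝔖 F) (𝔖 X)) := by
  haveI : ∀ W : (Over S)ᵒᵖ, Mono ((HomSh.homShMap (J₀ S) (CGrpSh.ptsMap Scheme.fppfPrecoverage u) (𝟙 (𝔖 X))).hom.app W) := by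
    intro W
    rw [AddCommGrpCat.mono_iff_injective]
    refine (injective_iff_map_eq_zero _).2 fun ψ hψ => ?_
    obtain ⟨φ, hφ⟩ := exists_descSec hex (C := X) (ψ : (𝔖 G).over W.unop ⟶ (𝔖 X).over W.unop) fun V a => by
      have h1 : val (((J₀ S).overPullback AddCommGrpCat.{u + 1} W.unop).map (CGrpSh.ptsMap Scheme.fppfPrecoverage u) ≫
          (ψ : (𝔖 G).over W.unop ⟶ (𝔖 X).over W.unop) ≫ ((J₀ S).overPullback AddCommGrpCat.{u + 1} W.unop).map (𝟙 (𝔖 X))) V a = 1 := by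
        rw [HomSh.homShMap_app_apply] at hψ
        erw [hψ]
        rfl
      exact h1
    have h0 : φ = 0 := eq_zero_of_isZero h φ
    exact sec_ext fun V g => by rw [← hφ, h0, val_zero, val_zero]
  haveI := NatTrans.mono_of_mono_app (HomSh.homShMap (J₀ S) (CGrpSh.ptsMap Scheme.fppfPrecoverage u) (𝟙 (𝔖 X))).hom
  exact (sheafToPresheaf _ _).mono_of_mono_map this

theorem mono_homShMap_post (X : Over S) [GrpObj X] [IsCommMonObj X]
    (h : IsZero (HomSh.homSh (J₀ S) (𝔖 X) (𝔖 F))) :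
    Mono (HomSh.homShMap (J₀ S) (𝟙 (𝔖 X)) (CGrpSh.ptsMap Scheme.fppfPrecoverage v) :
      HomSh.homSh (J₀ S) (𝔖 X) (𝔖 G) ⟶ HomSh.homSh (J₀ S) (𝔖 X) (𝔖 H)) := by
  haveI : ∀ W : (Over S)ᵒᵖ, Mono ((HomSh.homShMap (J₀ S) (𝟙 (𝔖 X)) (CGrpSh.ptsMap Scheme.fppfPrecoverage v)).hom.app W) := by
    intro W
    rw [AddCommGrpCat.mono_iff_injective]
    refine (injective_iff_map_eq_zero _).2 fun ψ hψ => ?_
    obtain ⟨φ, hφ⟩ := exists_liftSec hex (B := X) (ψ : (𝔖 X).over W.unop ⟶ (𝔖 G).over W.unop) fun V a => by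
      have h1 : val (((J₀ S).overPullback AddCommGrpCat.{u + 1} W.unop).map (𝟙 (𝔖 X)) ≫
          (ψ : (𝔖 X).over W.unop ⟶ (𝔖 G).over W.unop) ≫
          ((J₀ S).overPullback AddCommGrpCat.{u + 1} W.unop).map (CGrpSh.ptsMap Scheme.fppfPrecoverage v)) V a = 1 := by
        rw [HomSh.homShMap_app_apply] at hψ
        erw [hψ]
        rfl
      exact h1
    have h0 : φ = 0 := eq_zero_of_isZero h φ
    exact sec_ext fun V g => by rw [← hφ, h0, val_zero, val_zero, MonObj.one_comp]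
  haveI := NatTrans.mono_of_mono_app (HomSh.homShMap (J₀ S) (𝟙 (𝔖 X)) (CGrpSh.ptsMap Scheme.fppfPrecoverage v)).hom
  exact (sheafToPresheaf _ _).mono_of_mono_map this

theorem isIso_homShMap_pre (X : Over S) [GrpObj X] [IsCommMonObj X]
    (h : IsZero (HomSh.homSh (J₀ S) (𝔖 F) (𝔖 X))) :
    IsIso (HomSh.homShMap (J₀ S) (CGrpSh.ptsMap Scheme.fppfPrecoverage v) (𝟙 (𝔖 X)) :
      HomSh.homSh (J₀ S) (𝔖 H) (𝔖 X) ⟶ HomSh.homSh (J₀ S) (𝔖 G) (𝔖 X)) := by
  haveI : ∀ W : (Over S)ᵒᵖ, IsIso ((HomSh.homShMap (J₀ S) (CGrpSh.ptsMap Scheme.fppfPrecoverage v) (𝟙 (𝔖 X))).hom.app W) := by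
    intro W
    refine (ConcreteCategory.isIso_iff_bijective _).2 ⟨fun φ φ' e => ?_, fun ψ => ?_⟩
    · rw [HomSh.homShMap_app_apply, HomSh.homShMap_app_apply] at e
      refine sec_ext_of_epi hex fun V g => ?_
      exact congrArg (fun z => val z V g) e
    · obtain ⟨φ, hφ⟩ := exists_descSec hex (C := X) (ψ : (𝔖 G).over W.unop ⟶ (𝔖 X).over W.unop) fun V a => by
        rw [← val_pre u, eq_zero_of_isZero h (((J₀ S).overPullback AddCommGrpCat.{u + 1} W.unop).map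
          (CGrpSh.ptsMap Scheme.fppfPrecoverage u) ≫ (ψ : (𝔖 G).over W.unop ⟶ (𝔖 X).over W.unop)), val_zero]
      refine ⟨φ, ?_⟩
      rw [HomSh.homShMap_app_apply]
      exact sec_ext fun V g => hφ V g
  haveI : IsIso ((sheafToPresheaf (J₀ S) AddCommGrpCat.{u + 1}).map
      (HomSh.homShMap (J₀ S) (CGrpSh.ptsMap Scheme.fppfPrecoverage v) (𝟙 (𝔖 X)))) :=
    NatIso.isIso_of_isIso_app (HomSh.homShMap (J₀ S) (CGrpSh.ptsMap Scheme.fppfPrecoverage v) (𝟙 (𝔖 X))).hom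
  exact isIso_of_fully_faithful (sheafToPresheaf _ _) _

theorem isIso_homShMap_post (X : Over S) [GrpObj X] [IsCommMonObj X]
    (h : IsZero (HomSh.homSh (J₀ S) (𝔖 X) (𝔖 H))) :
    IsIso (HomSh.homShMap (J₀ S) (𝟙 (𝔖 X)) (CGrpSh.ptsMap Scheme.fppfPrecoverage u) :
      HomSh.homSh (J₀ S) (𝔖 X) (𝔖 F) ⟶ HomSh.homSh (J₀ S) (𝔖 X) (𝔖 G)) := by
  haveI := OneMotLib.mono_of_shortExact u v w hex
  haveI : ∀ W : (Over S)ᵒᵖ, IsIso ((HomSh.homShMap (J₀ S) (𝟙 (𝔖 X)) (CGrpSh.ptsMap Scheme.fppfPrecoverage u)).hom.app W) := by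
    intro W
    refine (ConcreteCategory.isIso_iff_bijective _).2 ⟨fun φ φ' e => ?_, fun ψ => ?_⟩
    · rw [HomSh.homShMap_app_apply, HomSh.homShMap_app_apply] at e
      refine sec_ext fun V g => (cancel_mono u).1 ?_
      exact congrArg (fun z => val z V g) e
    · obtain ⟨φ, hφ⟩ := exists_liftSec hex (B := X) (ψ : (𝔖 X).over W.unop ⟶ (𝔖 G).over W.unop) fun V a => by
        rw [← val_post v, eq_zero_of_isZero h ((ψ : (𝔖 X).over W.unop ⟶ (𝔖 G).over W.unop) ≫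
          ((J₀ S).overPullback AddCommGrpCat.{u + 1} W.unop).map (CGrpSh.ptsMap Scheme.fppfPrecoverage v)), val_zero]
      refine ⟨φ, ?_⟩
      rw [HomSh.homShMap_app_apply]
      exact sec_ext fun V g => hφ V g
  haveI : IsIso ((sheafToPresheaf (J₀ S) AddCommGrpCat.{u + 1}).map
      (HomSh.homShMap (J₀ S) (𝟙 (𝔖 X)) (CGrpSh.ptsMap Scheme.fppfPrecoverage u))) :=
    NatIso.isIso_of_isIso_app (HomSh.homShMap (J₀ S) (𝟙 (𝔖 X)) (CGrpSh.ptsMap Scheme.fppfPrecoverage u)).hom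
  exact isIso_of_fully_faithful (sheafToPresheaf _ _) _

end Ext

end Groth.Agent.BiextDiv
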