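import Groth.Agent.H23.GeomConn
import Groth.Agent.DSPtsLib.Basic
import Groth.Agent.WittEndoLib.Basic
import Groth.Prelude.Def_CGrpSh2

/-!
# Sheaves of homomorphisms which vanish
-/

noncomputable section

set_option autoImplicit false
set_option linter.style.haveILetI false
set_option linter.unusedSectionVars false
set_option backward.isDefEq.respectTransparency false
set_option backward.isDefEq.respectTransparency.types false

universe u

open CategoryTheory CategoryTheory.Limits MonoidalCategory CartesianMonoidalCategory MonObj GrpObj AlgebraicGeometry Opposite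

attribute [local instance] CategoryTheory.Hom.monoid CategoryTheory.Hom.group

namespace Groth.Agent.BiextDiv

variable {S : Scheme.{u}} {B C : Over S} [GrpObj B] [IsCommMonObj B] [GrpObj C] [IsCommMonObj C]

local notation "𝔖" => CGrpSh.pts Scheme.fppfPrecoverage

local notation "J₀" => QuotSh.J Scheme.fppfPrecoverage

variable {W : Over S} (φ : (𝔖 B).over W ⟶ (𝔖 C).over W)

/-- The value of a section of the sheaf of homomorphisms on a point. -/
def val (V : Over W) (b : V.left ⟶ B) : V.left ⟶ C :=
  Additive.toMul (ULift.down (φ.hom.app (op V) (ULift.up (Additive.ofMul b))))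

theorem val_mul (V : Over W) (b b' : V.left ⟶ B) : val φ V (b * b') = val φ V b * val φ V b' :=
  congrArg (fun x => Additive.toMul (ULift.down x))
    (map_add (φ.hom.app (op V)).hom (ULift.up (Additive.ofMul b)) (ULift.up (Additive.ofMul b')))

theorem val_res {V V' : Over W} (g : V' ⟶ V) (b : V.left ⟶ B) : val φ V' (g.left ≫ b) = g.left ≫ val φ V b :=
  congrArg (fun x => Additive.toMul (ULift.down x))
    (ConcreteCategory.congr_hom (φ.hom.naturality g.op) (ULift.up (Additive.ofMul b)))

/-- A scheme over the parameter, over the parameter object. -/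
abbrev lift₂ (W : Over S) (Y : Over W.left) : Over W :=
  Over.mk (Over.homMk Y.hom rfl : (Over.map W.hom).obj Y ⟶ W)

/-- The morphism of base changes attached to a section of the sheaf of homomorphisms. -/
def bcHom : Red.bc W.hom B ⟶ Red.bc W.hom C :=
  (Over.mapPullbackAdj W.hom).homEquiv _ _
    (val φ (lift₂ W (Red.bc W.hom B)) (DSPtsLib.theta W.hom (𝟙 _)))

theorem theta_bcHom {Y : Over W.left} (a : Y ⟶ Red.bc W.hom B) :
    DSPtsLib.theta W.hom (a ≫ bcHom φ) = val φ (lift₂ W Y) (DSPtsLib.theta W.hom a) := by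
  let g : lift₂ W Y ⟶ lift₂ W (Red.bc W.hom B) := Over.homMk ((Over.map W.hom).map a)
    (Over.OverMorphism.ext (Over.w a))
  rw [DSPtsLib.theta_comp, bcHom, DSPtsLib.theta, Equiv.symm_apply_apply]
  refine (val_res φ g _).symm.trans (congrArg (val φ (lift₂ W Y)) ?_)
  show (Over.map W.hom).map a ≫ DSPtsLib.theta W.hom (𝟙 _) = _
  rw [← DSPtsLib.theta_comp, Category.comp_id]

theorem isMonHom_bcHom : IsMonHom (bcHom φ) :=
  WittEndoLib.isMonHom_of_mul _ fun Y a b => by
    refine (DSPtsLib.theta_bijective W.hom).1 ?_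
    rw [theta_bcHom, DSPtsLib.theta_mul, val_mul, DSPtsLib.theta_mul, theta_bcHom, theta_bcHom]

theorem theta_one' {Y : Over W.left} : DSPtsLib.theta W.hom (1 : Y ⟶ Red.bc W.hom C) = 1 := by
  have h := DSPtsLib.theta_mul W.hom (1 : Y ⟶ Red.bc W.hom C) 1
  rwa [_root_.one_mul, eq_comm, mul_eq_left] at h

theorem val_eq_one_of_bcHom (h : bcHom φ = 1) (V : Over W) (b : V.left ⟶ B) : val φ V b = 1 := by
  let Y : Over W.left := Over.mk V.hom.left
  let e : V ⟶ lift₂ W Y := Over.homMk (Over.homMk (𝟙 _) (by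
    show 𝟙 _ ≫ V.hom.left ≫ W.hom = V.left.hom
    rw [Category.id_comp]; exact Over.w V.hom)) (Over.OverMorphism.ext (Category.id_comp _))
  let e' : lift₂ W Y ⟶ V := Over.homMk (Over.homMk (𝟙 _) (by
    show 𝟙 _ ≫ V.left.hom = V.hom.left ≫ W.hom
    rw [Category.id_comp]; exact (Over.w V.hom).symm)) (Over.OverMorphism.ext (Category.id_comp _))
  have hee : e.left ≫ e'.left = 𝟙 _ := Over.OverMorphism.ext (Category.id_comp _)
  obtain ⟨a, ha⟩ := (DSPtsLib.theta_bijective (H := B) (Y := Y) W.hom).2 (e'.left ≫ b)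
  have h1 : val φ (lift₂ W Y) (e'.left ≫ b) = 1 := by
    rw [← ha, ← theta_bcHom, h, MonObj.comp_one, theta_one']
  calc val φ V b = val φ V ((e.left ≫ e'.left) ≫ b) := by rw [hee, Category.id_comp]
    _ = e.left ≫ val φ (lift₂ W Y) (e'.left ≫ b) := by rw [Category.assoc, val_res]
    _ = 1 := by rw [h1, MonObj.comp_one]

/-- A section of the sheaf of homomorphisms vanishes when the attached morphism is trivial. -/
theorem eq_zero_of_bcHom (h : bcHom φ = 1) : φ = 0 := by
  refine Sheaf.hom_ext ?_
  ext V x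
  obtain ⟨b⟩ := x
  exact ULift.ext _ _ (congrArg Additive.ofMul (val_eq_one_of_bcHom φ h V.unop b.toMul))

omit φ in
/-- The sheaf of homomorphisms vanishes when there are no homomorphisms over any base. -/
theorem isZero_homSh
    (h : ∀ (W : Over S) (f : Red.bc W.hom B ⟶ Red.bc W.hom C), IsMonHom f → f = 1) :
    IsZero (HomSh.homSh (J₀ S) (𝔖 B) (𝔖 C)) := by
  rw [IsZero.iff_id_eq_zero]
  refine Sheaf.hom_ext ?_
  ext W φ
  exact eq_zero_of_bcHom (φ : (𝔖 B).over W.unop ⟶ (𝔖 C).over W.unop) (h _ _ (isMonHom_bcHom _))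

end Groth.Agent.BiextDiv
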