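import Groth.Prelude.Def_Biext

/-!
# Pull-back of biextensions of divisible sheaves along multiplications has trivial kernel
-/

noncomputable section

set_option autoImplicit false
set_option linter.style.haveILetI false
set_option linter.unusedSectionVars false

universe u

open CategoryTheory CategoryTheory.Limits Opposite

namespace Groth.Agent.BiextDiv

variable {C : Type (u + 1)} [Category.{u} C] {J : GrothendieckTopology C} {P Q G : Sheaf J AddCommGrpCat.{u + 1}}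
variable (B : Biext J P Q G)

theorem add₁_congr {T : C} {x x' z z' : B.E.obj.obj (op T)} (hx : x = x') (hz : z = z') (h : B.πQ T x = B.πQ T z) :
    B.add₁ T x z h = B.add₁ T x' z' (hx ▸ hz ▸ h) := by
  subst hx hz
  rfl

theorem add₂_congr {T : C} {x x' z z' : B.E.obj.obj (op T)} (hx : x = x') (hz : z = z') (h : B.πP T x = B.πP T z) :
    B.add₂ T x z h = B.add₂ T x' z' (hx ▸ hz ▸ h) := by
  subst hx hz
  rfl

theorem add₁_act' {T : C} (g g' : G.obj.obj (op T)) (x z : B.E.obj.obj (op T)) (h : B.πQ T x = B.πQ T z) :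
    B.add₁ T (B.act T g x) (B.act T g' z) (by rw [B.πQ_act, B.πQ_act, h]) = B.act T (g + g') (B.add₁ T x z h) := by
  rw [B.add₁_act T g x _ (by rw [B.πQ_act, h]), B.add₁_comm T x _ (by rw [B.πQ_act, h]), B.add₁_act T g' z x h.symm,
    B.add₁_comm T z x h.symm, ← B.add_act]

theorem add₂_act' {T : C} (g g' : G.obj.obj (op T)) (x z : B.E.obj.obj (op T)) (h : B.πP T x = B.πP T z) :
    B.add₂ T (B.act T g x) (B.act T g' z) (by rw [B.πP_act, B.πP_act, h]) = B.act T (g + g') (B.add₂ T x z h) := by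
  rw [B.add₂_act T g x _ (by rw [B.πP_act, h]), B.add₂_comm T x _ (by rw [B.πP_act, h]), B.add₂_act T g' z x h.symm,
    B.add₂_comm T z x h.symm, ← B.add_act]

theorem act_inj {T : C} {g g' : G.obj.obj (op T)} {x : B.E.obj.obj (op T)} (h : B.act T g x = B.act T g' x) :
    g = g' :=
  (B.existsUnique_act T x (B.act T g' x) (B.πP_act T g' x).symm (B.πQ_act T g' x).symm).unique h rfl

/-- A family of sections above images of multiplications by `n` and `m`. -/
structure Partial (n m : ℤ) where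
  τ : ∀ T : C, P.obj.obj (op T) → Q.obj.obj (op T) → B.E.obj.obj (op T)
  πP_τ : ∀ T p q, B.πP T (τ T p q) = n • p
  πQ_τ : ∀ T p q, B.πQ T (τ T p q) = m • q
  τ_map : ∀ {T T' : C} (f : T' ⟶ T) p q,
    B.E.obj.map f.op (τ T p q) = τ T' (P.obj.map f.op p) (Q.obj.map f.op q)
  τ_add₁ : ∀ T p p' q, τ T (p + p') q = B.add₁ T (τ T p q) (τ T p' q) ((πQ_τ T p q).trans (πQ_τ T p' q).symm)
  τ_add₂ : ∀ T p q q', τ T p (q + q') = B.add₂ T (τ T p q) (τ T p q') ((πP_τ T p q).trans (πP_τ T p q').symm)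

variable {B} {n m : ℤ} (t : Partial B n m)

/-- Multiples of `n` exhaust `P` locally. -/
def IsDivisible (P : Sheaf J AddCommGrpCat.{u + 1}) (n : ℤ) : Prop :=
  ∀ (T : C) (p : P.obj.obj (op T)), ∃ R ∈ J T, ∀ ⦃T' : C⦄ (f : T' ⟶ T), R f →
    ∃ p' : P.obj.obj (op T'), n • p' = P.obj.map f.op p

theorem ext_G {T : C} {R : Sieve T} (hR : R ∈ J T) (g g' : G.obj.obj (op T))
    (h : ∀ ⦃T' : C⦄ (f : T' ⟶ T), R f → G.obj.map f.op g = G.obj.map f.op g') : g = g' :=
  ((isSheaf_iff_isSheaf_of_type J _).1 (Biext.uSh J G).property R hR).isSeparatedFor.ext h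

theorem ext_E {T : C} {R : Sieve T} (hR : R ∈ J T) (x y : B.E.obj.obj (op T))
    (h : ∀ ⦃T' : C⦄ (f : T' ⟶ T), R f → B.E.obj.map f.op x = B.E.obj.map f.op y) : x = y :=
  ((isSheaf_iff_isSheaf_of_type J _).1 B.E.property R hR).isSeparatedFor.ext h

section Torsion₁

/-- The discrepancy at an `n`-torsion first argument. -/
theorem exists_a₁ (T : C) {p : P.obj.obj (op T)} (hp : n • p = 0) (q : Q.obj.obj (op T)) :
    ∃! g : G.obj.obj (op T), B.act T g (t.τ T 0 q) = t.τ T p q :=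
  B.existsUnique_act T _ _ (by rw [t.πP_τ, t.πP_τ, hp, zsmul_zero]) (by rw [t.πQ_τ, t.πQ_τ])

def a₁ (T : C) {p : P.obj.obj (op T)} (hp : n • p = 0) (q : Q.obj.obj (op T)) : G.obj.obj (op T) :=
  (exists_a₁ t T hp q).choose

theorem a₁_spec (T : C) {p : P.obj.obj (op T)} (hp : n • p = 0) (q : Q.obj.obj (op T)) :
    B.act T (a₁ t T hp q) (t.τ T 0 q) = t.τ T p q :=
  (exists_a₁ t T hp q).choose_spec.1

theorem a₁_map {T T' : C} (f : T' ⟶ T) {p : P.obj.obj (op T)} (hp : n • p = 0) (q : Q.obj.obj (op T))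
    (hp' : n • P.obj.map f.op p = 0) :
    a₁ t T' hp' (Q.obj.map f.op q) = G.obj.map f.op (a₁ t T hp q) := by
  have h := congrArg (B.E.obj.map f.op) (a₁_spec t T hp q)
  rw [B.act_map, t.τ_map, t.τ_map, map_zero] at h
  exact act_inj B ((a₁_spec t T' hp' _).trans h.symm)

theorem a₁_right (T : C) {p : P.obj.obj (op T)} (hp : n • p = 0) (q q' : Q.obj.obj (op T)) :
    a₁ t T hp (q + q') = a₁ t T hp q + a₁ t T hp q' := by
  refine act_inj B (x := t.τ T 0 (q + q')) ((a₁_spec t T hp _).trans ?_)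
  rw [t.τ_add₂ T p q q', add₂_congr B (a₁_spec t T hp q).symm (a₁_spec t T hp q').symm,
    add₂_act' B _ _ _ _ ((t.πP_τ T 0 q).trans (t.πP_τ T 0 q').symm), ← t.τ_add₂]

theorem τ_zero_idem (T : C) (q : Q.obj.obj (op T)) :
    B.add₁ T (t.τ T 0 q) (t.τ T 0 q) rfl = t.τ T 0 q := by
  rw [← t.τ_add₁, add_zero]

theorem a₁_left (T : C) {p p' : P.obj.obj (op T)} (hp : n • p = 0) (hp' : n • p' = 0) (hpp : n • (p + p') = 0)
    (q : Q.obj.obj (op T)) : a₁ t T hpp q = a₁ t T hp q + a₁ t T hp' q := by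
  refine act_inj B (x := t.τ T 0 q) ((a₁_spec t T hpp _).trans ?_)
  rw [t.τ_add₁ T p p' q, add₁_congr B (a₁_spec t T hp q).symm (a₁_spec t T hp' q).symm,
    add₁_act' B _ _ _ _ rfl, τ_zero_idem]

theorem a₁_eq_zero (hQ : IsDivisible Q n) (T : C) {p : P.obj.obj (op T)} (hp : n • p = 0) (q : Q.obj.obj (op T)) :
    a₁ t T hp q = 0 := by
  obtain ⟨R, hR, h⟩ := hQ T q
  refine ext_G hR _ _ fun T' f hf => ?_
  obtain ⟨q', hq'⟩ := h f hf
  have hp' : n • P.obj.map f.op p = 0 := by rw [← map_zsmul, hp, map_zero]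
  rw [← a₁_map t f hp q hp', map_zero, ← hq']
  -- the multiples in the second variable move to the first one
  let L : (↥(zsmulAddGroupHom n : P.obj.obj (op T') →+ P.obj.obj (op T')).ker) →+
      Q.obj.obj (op T') →+ G.obj.obj (op T') :=
    AddMonoidHom.mk' (fun x => AddMonoidHom.mk' (fun y => a₁ t T' x.2 y) (a₁_right t T' x.2))
      (fun x x' => AddMonoidHom.ext fun y => a₁_left t T' x.2 x'.2 (x + x').2 y)
  show L ⟨P.obj.map f.op p, hp'⟩ (n • q') = 0
  rw [map_zsmul, ← AddMonoidHom.zsmul_apply, ← map_zsmul]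
  have h0 : n • (⟨P.obj.map f.op p, hp'⟩ : ↥(zsmulAddGroupHom n : P.obj.obj (op T') →+ P.obj.obj (op T')).ker) = 0 :=
    Subtype.ext hp'
  rw [h0, map_zero, AddMonoidHom.zero_apply]

theorem τ_left_eq (hQ : IsDivisible Q n) (T : C) {p p' : P.obj.obj (op T)} (h : n • p = n • p')
    (q : Q.obj.obj (op T)) : t.τ T p q = t.τ T p' q := by
  have hd : n • (p - p') = 0 := by rw [zsmul_sub, h, sub_self]
  have h1 : t.τ T (p - p') q = t.τ T 0 q := by
    rw [← a₁_spec t T hd q, a₁_eq_zero t hQ T hd q, B.zero_act]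
  calc t.τ T p q = t.τ T (p' + (p - p')) q := by rw [add_sub_cancel]
    _ = B.add₁ T (t.τ T p' q) (t.τ T 0 q) ((t.πQ_τ T p' q).trans (t.πQ_τ T 0 q).symm) := by
      rw [t.τ_add₁, add₁_congr B rfl h1]
    _ = t.τ T p' q := by rw [← t.τ_add₁, add_zero]

end Torsion₁

section Torsion₂

/-- The discrepancy at an `m`-torsion second argument. -/
theorem exists_a₂ (T : C) (p : P.obj.obj (op T)) {q : Q.obj.obj (op T)} (hq : m • q = 0) :
    ∃! g : G.obj.obj (op T), B.act T g (t.τ T p 0) = t.τ T p q :=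
  B.existsUnique_act T _ _ (by rw [t.πP_τ, t.πP_τ]) (by rw [t.πQ_τ, t.πQ_τ, hq, zsmul_zero])

def a₂ (T : C) (p : P.obj.obj (op T)) {q : Q.obj.obj (op T)} (hq : m • q = 0) : G.obj.obj (op T) :=
  (exists_a₂ t T p hq).choose

theorem a₂_spec (T : C) (p : P.obj.obj (op T)) {q : Q.obj.obj (op T)} (hq : m • q = 0) :
    B.act T (a₂ t T p hq) (t.τ T p 0) = t.τ T p q :=
  (exists_a₂ t T p hq).choose_spec.1

theorem a₂_map {T T' : C} (f : T' ⟶ T) (p : P.obj.obj (op T)) {q : Q.obj.obj (op T)} (hq : m • q = 0)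
    (hq' : m • Q.obj.map f.op q = 0) :
    a₂ t T' (P.obj.map f.op p) hq' = G.obj.map f.op (a₂ t T p hq) := by
  have h := congrArg (B.E.obj.map f.op) (a₂_spec t T p hq)
  rw [B.act_map, t.τ_map, t.τ_map, map_zero] at h
  exact act_inj B ((a₂_spec t T' _ hq').trans h.symm)

theorem a₂_left (T : C) (p p' : P.obj.obj (op T)) {q : Q.obj.obj (op T)} (hq : m • q = 0) :
    a₂ t T (p + p') hq = a₂ t T p hq + a₂ t T p' hq := by
  refine act_inj B (x := t.τ T (p + p') 0) ((a₂_spec t T _ hq).trans ?_)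
  rw [t.τ_add₁ T p p' q, add₁_congr B (a₂_spec t T p hq).symm (a₂_spec t T p' hq).symm,
    add₁_act' B _ _ _ _ ((t.πQ_τ T p 0).trans (t.πQ_τ T p' 0).symm), ← t.τ_add₁]

theorem τ_zero_idem₂ (T : C) (p : P.obj.obj (op T)) :
    B.add₂ T (t.τ T p 0) (t.τ T p 0) rfl = t.τ T p 0 := by
  rw [← t.τ_add₂, add_zero]

theorem a₂_right (T : C) (p : P.obj.obj (op T)) {q q' : Q.obj.obj (op T)} (hq : m • q = 0) (hq' : m • q' = 0)
    (hqq : m • (q + q') = 0) : a₂ t T p hqq = a₂ t T p hq + a₂ t T p hq' := by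
  refine act_inj B (x := t.τ T p 0) ((a₂_spec t T _ hqq).trans ?_)
  rw [t.τ_add₂ T p q q', add₂_congr B (a₂_spec t T p hq).symm (a₂_spec t T p hq').symm,
    add₂_act' B _ _ _ _ rfl, τ_zero_idem₂]

theorem a₂_eq_zero (hP : IsDivisible P m) (T : C) (p : P.obj.obj (op T)) {q : Q.obj.obj (op T)} (hq : m • q = 0) :
    a₂ t T p hq = 0 := by
  obtain ⟨R, hR, h⟩ := hP T p
  refine ext_G hR _ _ fun T' f hf => ?_
  obtain ⟨p', hp'⟩ := h f hf
  have hq' : m • Q.obj.map f.op q = 0 := by rw [← map_zsmul, hq, map_zero]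
  rw [← a₂_map t f p hq hq', map_zero, ← hp']
  let L : (↥(zsmulAddGroupHom m : Q.obj.obj (op T') →+ Q.obj.obj (op T')).ker) →+
      P.obj.obj (op T') →+ G.obj.obj (op T') :=
    AddMonoidHom.mk' (fun y => AddMonoidHom.mk' (fun x => a₂ t T' x y.2) (fun x x' => a₂_left t T' x x' y.2))
      (fun y y' => AddMonoidHom.ext fun x => a₂_right t T' x y.2 y'.2 (y + y').2)
  show L ⟨Q.obj.map f.op q, hq'⟩ (m • p') = 0
  rw [map_zsmul, ← AddMonoidHom.zsmul_apply, ← map_zsmul]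
  have h0 : m • (⟨Q.obj.map f.op q, hq'⟩ : ↥(zsmulAddGroupHom m : Q.obj.obj (op T') →+ Q.obj.obj (op T')).ker) = 0 :=
    Subtype.ext hq'
  rw [h0, map_zero, AddMonoidHom.zero_apply]

theorem τ_right_eq (hP : IsDivisible P m) (T : C) (p : P.obj.obj (op T)) {q q' : Q.obj.obj (op T)}
    (h : m • q = m • q') : t.τ T p q = t.τ T p q' := by
  have hd : m • (q - q') = 0 := by rw [zsmul_sub, h, sub_self]
  have h1 : t.τ T p (q - q') = t.τ T p 0 := by
    rw [← a₂_spec t T p hd, a₂_eq_zero t hP T p hd, B.zero_act]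
  calc t.τ T p q = t.τ T p (q' + (q - q')) := by rw [add_sub_cancel]
    _ = B.add₂ T (t.τ T p q') (t.τ T p 0) ((t.πP_τ T p q').trans (t.πP_τ T p 0).symm) := by
      rw [t.τ_add₂, add₂_congr B rfl h1]
    _ = t.τ T p q' := by rw [← t.τ_add₂, add_zero]

end Torsion₂

/-- The sieve where both components are divisible. -/
def divSieve (n m : ℤ) {T : C} (p : P.obj.obj (op T)) (q : Q.obj.obj (op T)) : Sieve T where
  arrows T' f := ∃ (a : P.obj.obj (op T')) (b : Q.obj.obj (op T')),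
    n • a = P.obj.map f.op p ∧ m • b = Q.obj.map f.op q
  downward_closed := by
    rintro T' T'' f ⟨a, b, ha, hb⟩ g
    refine ⟨P.obj.map g.op a, Q.obj.map g.op b, ?_, ?_⟩
    · rw [← map_zsmul, ha, op_comp, Functor.map_comp]; rfl
    · rw [← map_zsmul, hb, op_comp, Functor.map_comp]; rfl

theorem divSieve_mem (hP : IsDivisible P n) (hQ : IsDivisible Q m) {T : C} (p : P.obj.obj (op T))
    (q : Q.obj.obj (op T)) : divSieve n m p q ∈ J T := by
  obtain ⟨R, hR, h⟩ := hP T p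
  obtain ⟨R', hR', h'⟩ := hQ T q
  refine J.superset_covering ?_ (J.intersection_covering hR hR')
  intro T' f hf
  obtain ⟨a, ha⟩ := h f hf.1
  obtain ⟨b, hb⟩ := h' f hf.2
  exact ⟨a, b, ha, hb⟩

include t in
/-- A partial family over divisible sheaves extends to a splitting. -/
theorem isTrivial_of_partial (hP : IsDivisible P n) (hP' : IsDivisible P m) (hQ : IsDivisible Q m)
    (hQ' : IsDivisible Q n) : Biext.IsTrivial J B := by
  have hwd : ∀ (T : C) (a a' : P.obj.obj (op T)) (b b' : Q.obj.obj (op T)), n • a = n • a' → m • b = m • b' →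
      t.τ T a b = t.τ T a' b' := fun T a a' b b' ha hb =>
    (τ_left_eq t hQ' T ha b).trans (τ_right_eq t hP' T a' hb)
  let fam : ∀ (T : C) (p : P.obj.obj (op T)) (q : Q.obj.obj (op T)),
      Presieve.FamilyOfElements B.E.obj (divSieve n m p q).arrows :=
    fun T p q T' f hf => t.τ T' hf.choose hf.choose_spec.choose
  have hfam : ∀ T p q, (fam T p q).Compatible := fun T p q W₁ W₂ V g₁ g₂ f₁ f₂ h₁ h₂ e => by
    show B.E.obj.map g₁.op (t.τ W₁ _ _) = B.E.obj.map g₂.op (t.τ W₂ _ _)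
    rw [t.τ_map, t.τ_map]
    refine hwd V _ _ _ _ ?_ ?_
    · rw [← map_zsmul, ← map_zsmul, h₁.choose_spec.choose_spec.1, h₂.choose_spec.choose_spec.1,
        ← ConcreteCategory.comp_apply, ← ConcreteCategory.comp_apply, ← Functor.map_comp, ← Functor.map_comp,
        ← op_comp, ← op_comp, e]
    · rw [← map_zsmul, ← map_zsmul, h₁.choose_spec.choose_spec.2, h₂.choose_spec.choose_spec.2,
        ← ConcreteCategory.comp_apply, ← ConcreteCategory.comp_apply, ← Functor.map_comp, ← Functor.map_comp,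
        ← op_comp, ← op_comp, e]
  have hex : ∀ (T : C) (p : P.obj.obj (op T)) (q : Q.obj.obj (op T)), ∃ s : B.E.obj.obj (op T),
      ∀ ⦃T' : C⦄ (f : T' ⟶ T) (a : P.obj.obj (op T')) (b : Q.obj.obj (op T')), n • a = P.obj.map f.op p →
        m • b = Q.obj.map f.op q → B.E.obj.map f.op s = t.τ T' a b := by
    intro T p q
    obtain ⟨s, hs, -⟩ := (isSheaf_iff_isSheaf_of_type J _).1 B.E.property _ (divSieve_mem hP hQ p q) (fam T p q)
      (hfam T p q)
    refine ⟨s, fun T' f a b ha hb => ?_⟩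
    have hf : divSieve n m p q f := ⟨a, b, ha, hb⟩
    rw [hs f hf]
    exact hwd T' _ _ _ _ (hf.choose_spec.choose_spec.1.trans ha.symm) (hf.choose_spec.choose_spec.2.trans hb.symm)
  choose σ hσ using hex
  refine ⟨⟨σ, fun T p q => ?_, fun T p q => ?_, fun {T T'} f p q => ?_, fun T p p' q => ?_, fun T p q q' => ?_⟩⟩
  · refine ((isSheaf_iff_isSheaf_of_type J _).1 (Biext.uSh J P).property _ (divSieve_mem hP hQ p q)).isSeparatedFor.ext
      fun T' f hf => ?_
    obtain ⟨a, b, ha, hb⟩ := hf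
    show P.obj.map f.op (B.πP T (σ T p q)) = P.obj.map f.op p
    rw [← B.πP_map, hσ T p q f a b ha hb, t.πP_τ, ha]
  · refine ((isSheaf_iff_isSheaf_of_type J _).1 (Biext.uSh J Q).property _ (divSieve_mem hP hQ p q)).isSeparatedFor.ext
      fun T' f hf => ?_
    obtain ⟨a, b, ha, hb⟩ := hf
    show Q.obj.map f.op (B.πQ T (σ T p q)) = Q.obj.map f.op q
    rw [← B.πQ_map, hσ T p q f a b ha hb, t.πQ_τ, hb]
  · refine ext_E (divSieve_mem hP hQ (P.obj.map f.op p) (Q.obj.map f.op q)) _ _ fun T'' g hg => ?_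
    obtain ⟨a, b, ha, hb⟩ := hg
    rw [hσ T' _ _ g a b ha hb, ← ConcreteCategory.comp_apply, ← Functor.map_comp, ← op_comp]
    refine hσ T p q (g ≫ f) a b ?_ ?_
    · rw [ha, op_comp, Functor.map_comp]; rfl
    · rw [hb, op_comp, Functor.map_comp]; rfl
  · refine ext_E (J.intersection_covering (divSieve_mem hP hQ p q) (divSieve_mem hP hQ p' q)) _ _ fun T' f hf => ?_
    obtain ⟨⟨a, b, ha, hb⟩, a', b', ha', hb'⟩ := hf
    rw [hσ T (p + p') q f (a + a') b (by rw [zsmul_add, ha, ha', map_add]) hb, t.τ_add₁, B.add₁_map]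
    exact add₁_congr B (hσ T p q f a b ha hb).symm (hσ T p' q f a' b ha' hb).symm _
  · refine ext_E (J.intersection_covering (divSieve_mem hP hQ p q) (divSieve_mem hP hQ p q')) _ _ fun T' f hf => ?_
    obtain ⟨⟨a, b, ha, hb⟩, a', b', ha', hb'⟩ := hf
    rw [hσ T p (q + q') f a (b + b') ha (by rw [zsmul_add, hb, hb', map_add]), t.τ_add₂, B.add₂_map]
    exact add₂_congr B (hσ T p q f a b ha hb).symm (hσ T p q' f a b' ha hb').symm _

/-- The partial family coming from a trivialised inverse image. -/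
def partialOfHomOver {α : P ⟶ P} {β : Q ⟶ Q} (hα : ∀ T p, α.hom.app (op T) p = n • p)
    (hβ : ∀ T q, β.hom.app (op T) q = m • q) {B' : Biext J P Q G} (φ : Biext.HomOver J α β (𝟙 G) B' B)
    (s : Biext.Splitting J B') : Partial B n m where
  τ T p q := φ.map T (s.σ T p q)
  πP_τ T p q := by rw [φ.πP_map, s.πP_σ, hα]
  πQ_τ T p q := by rw [φ.πQ_map, s.πQ_σ, hβ]
  τ_map f p q := by rw [← φ.map_res, s.σ_map]
  τ_add₁ T p p' q := by rw [s.σ_add₁, φ.map_add₁]
  τ_add₂ T p q q' := by rw [s.σ_add₂, φ.map_add₂]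

end Groth.Agent.BiextDiv
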