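import Groth.Agent.BiextDiv.HomZero
import Groth.Agent.Deform.AVFactor
import Groth.Agent.Deform.AntiAffineParts
import Groth.Agent.Deform.TorusBasic
import Groth.Agent.Deform.Extension
import Groth.Agent.GrpSchLib.HomUnitLocus
import Groth.Agent.GrpSchLib.IsogenyFibre
import Groth.Agent.H23.RigidAb
import Groth.Prelude.Def_OneMot

/-!
# No homomorphisms between tori and abelian schemes
-/

noncomputable section

set_option autoImplicit false
set_option linter.style.haveILetI false
set_option linter.unusedSectionVars false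
set_option backward.isDefEq.respectTransparency false
set_option backward.isDefEq.respectTransparency.types false
set_option synthInstance.maxHeartbeats 400000

universe u

open CategoryTheory CategoryTheory.Limits MonoidalCategory CartesianMonoidalCategory MonObj GrpObj AlgebraicGeometry Opposite

attribute [local instance] CategoryTheory.Hom.monoid CategoryTheory.Hom.group

namespace Groth.Agent.BiextDiv

variable {S : Scheme.{u}}

/-- A homomorphism from a torus to an abelian scheme is trivial. -/
theorem torus_to_ab {T A : Over S} [GrpObj T] (hT : Red.IsTorus T) [GrpObj A] [Smooth A.hom] [IsProper A.hom]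
    [GeometricallyConnected A.hom] (f : T ⟶ A) [IsMonHom f] : f = 1 := by
  obtain ⟨U, -, hU, hUt⟩ := GrpSchLib.HomUnitLocus.main (u := f) (Deform.isMultTypeFT_of_isTorus hT)
    (Or.inr inferInstance)
  have htriv : ∀ s : S, GrpSchLib.HomUnitLocus.Triv f (S.fromSpecResidueField s) := fun s => by
    let σ : Spec (CommRingCat.of (S.residueField s)) ⟶ S := S.fromSpecResidueField s
    obtain ⟨hTa, hTl, hTs, hTc⟩ := Deform.TorusBasic.props (Deform.isTorus_bc σ hT)
    haveI := hTa; haveI := hTs; haveI := hTc
    haveI : IsProper (Red.bc σ A).hom := inferInstanceAs (IsProper (pullback.snd A.hom σ))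
    exact GrpSchLib.HomUnitLocus.triv_of_map_eq_one (g := σ) (Deform.AVFactor.eq_one_of_affine ((Over.pullback σ).map f))
  have htop : U = ⊤ := TopologicalSpace.Opens.ext (Set.eq_univ_of_forall fun s => (hU s).2 (htriv s))
  subst htop
  let q : T ⟶ Over.mk (⊤ : S.Opens).ι := Over.homMk (T.hom ≫ S.topIso.inv) (by
    show (T.hom ≫ S.topIso.inv) ≫ (⊤ : S.Opens).ι = T.hom
    rw [Category.assoc, ← Scheme.topIso_hom, Iso.inv_hom_id, Category.comp_id])
  simpa using hUt T q (𝟙 T)

/-- A homomorphism from an abelian scheme to a torus is trivial. -/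
theorem ab_to_torus {A T : Over S} [GrpObj T] (hT : Red.IsTorus T) [GrpObj A] [Smooth A.hom] [IsProper A.hom]
    [GeometricallyConnected A.hom] (f : A ⟶ T) [IsMonHom f] : f = 1 := by
  haveI := GrpSchLib.IsogenyFibre.geometricallyReduced_of_smooth' A.hom
  haveI : IsAffineHom T.hom := (TransLib.multTypeFT_essFree (Deform.isMultTypeFT_of_isTorus hT)).1
  rw [H23.RigidAb.eq_toUnit_comp η[A] f fun s => ?_, IsMonHom.one_hom, ← Hom.one_def]
  let σ : Spec (CommRingCat.of (S.residueField s)) ⟶ S := S.fromSpecResidueField s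
  obtain ⟨hTa, -, -, -⟩ := Deform.TorusBasic.props (Deform.isTorus_bc σ hT)
  haveI := hTa
  have h1 : (Over.pullback σ).map f = 1 := Deform.AntiAffineParts.eq_one_of_isAffine
    (H23.RigidGamma.constFibres A.hom s) _ (by rw [IsMonHom.one_hom, MonObj.one_eq_one])
  let pt : Spec (CommRingCat.of (S.residueField s)) := IsLocalRing.closedPoint (S.residueField s)
  refine ⟨(η[Red.bc σ T].left ≫ pullback.fst T.hom σ) pt, fun x hx => ?_⟩
  obtain ⟨z, hz, -⟩ := Scheme.Pullback.exists_preimage_pullback (f := A.hom) (g := σ) x pt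
    (hx.trans (Scheme.fromSpecResidueField_apply s pt).symm)
  have h2 : pullback.fst A.hom σ ≫ f.left = (Red.bc σ A).hom ≫ η[Red.bc σ T].left ≫ pullback.fst T.hom σ := by
    have h3 := (Deform.Extension.isPullback_map_left σ f).w
    rw [← h3, h1, Hom.one_def, Over.comp_left, Category.assoc]
    rfl
  rw [← hz, ← Scheme.Hom.comp_apply, h2, Scheme.Hom.comp_apply]
  exact congrArg _ (Subsingleton.elim (α := PrimeSpectrum (S.residueField s)) _ _)

theorem geomConn_bc {W : Scheme.{u}} (g : W ⟶ S) (A : Over S) [GeometricallyConnected A.hom] :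
    GeometricallyConnected (Red.bc g A).hom :=
  inferInstanceAs (GeometricallyConnected (pullback.snd A.hom g))

variable {T A : Over S} [GrpObj T] [IsCommMonObj T] [GrpObj A] [IsCommMonObj A] [Smooth A.hom] [IsProper A.hom]

local notation "𝔖" => CGrpSh.pts Scheme.fppfPrecoverage

local notation "J₀" => QuotSh.J Scheme.fppfPrecoverage

theorem isZero_homSh_torus_ab (hT : Red.IsTorus T) (hA : ∀ s : S, ConnectedSpace ↥(A.hom.fiber s)) :
    IsZero (HomSh.homSh (J₀ S) (𝔖 T) (𝔖 A)) := by
  haveI := H23.GeomConn.of_grp A hA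
  refine isZero_homSh fun W f hf => ?_
  haveI := hf
  haveI : Smooth (Red.bc W.hom A).hom := inferInstanceAs (Smooth (pullback.snd A.hom W.hom))
  haveI : IsProper (Red.bc W.hom A).hom := inferInstanceAs (IsProper (pullback.snd A.hom W.hom))
  haveI := geomConn_bc W.hom A
  exact torus_to_ab (Deform.isTorus_bc W.hom hT) f

theorem isZero_homSh_ab_torus (hT : Red.IsTorus T) (hA : ∀ s : S, ConnectedSpace ↥(A.hom.fiber s)) :
    IsZero (HomSh.homSh (J₀ S) (𝔖 A) (𝔖 T)) := by
  haveI := H23.GeomConn.of_grp A hA
  refine isZero_homSh fun W f hf => ?_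
  haveI := hf
  haveI : Smooth (Red.bc W.hom A).hom := inferInstanceAs (Smooth (pullback.snd A.hom W.hom))
  haveI : IsProper (Red.bc W.hom A).hom := inferInstanceAs (IsProper (pullback.snd A.hom W.hom))
  haveI := geomConn_bc W.hom A
  exact ab_to_torus (Deform.isTorus_bc W.hom hT) f

end Groth.Agent.BiextDiv
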